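import Cfsg.Agent.H729.PairEleven
import Cfsg.Agent.Schreier.CoTwoStab
import Cfsg.Agent.FastGrp
import Cfsg.Agent.Prune
set_option linter.all false

section
prune_inst 0x7f00000000000000000000000000000000000000000000000000000000000000000000000000000000000000000000000000000000000000000000000000000000000000000000000000000000000000003fffffffffffffffffffffffffffbeffbdffffffff

-- part: H729/PairCoN
section
set_option linter.all false
open scoped Cfsg.Agent.FastGrp

/-!
# `Co1` and `Co2` satisfy `PairN`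

`r = 11`. `Co2`: an involution inverts an element of order 11, and no involution commutes with it.
`Co1`: the image of an element with square `-1` inverts an element of order 11 and commutes with none.
-/

set_option autoImplicit false

namespace Cfsg.Agent.H729.PairCoN

open Subgroup hiding mk
open Cfsg Cfsg.Agent.H729.PairBase Cfsg.Agent.H463.Pair
open Cfsg.Agent.SporadicA.GolayBase Cfsg.Agent.SporadicA.GolayPerm
open Cfsg.Agent.SporadicA.Co0Mono hiding mk
open Cfsg.Agent.SporadicA.Co1Simple Cfsg.Agent.Co2Type.Mono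
open Cfsg.Agent.SporadicStructure.M24El
open Cfsg.Agent.H729.MData Cfsg.Agent.H729.Count Cfsg.Agent.H729.PairEleven
open Cfsg.Agent.CoOneType.ClosingFacts (mk mk_mul mk_inv exists_mk mk_eq_one mk_eq)

universe u

/-- Two elements of order `r`, `r` dividing the order of the group once. -/
theorem exists_conj_zpow {G : Type*} [Group G] [Finite G] {r : ℕ} (hr : r.Prime) (h2 : ¬ r ^ 2 ∣ Nat.card G) {x g : G}
    (hx : orderOf x = r) (hg : orderOf g = r) : ∃ (c : G) (n : ℤ), c * g ^ n * c⁻¹ = x := by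
  have : Fact r.Prime := ⟨hr⟩
  have hfac : (Nat.card G).factorization r = 1 := by
    have h0 : Nat.card G ≠ 0 := Nat.card_pos.ne'
    have ha : 1 ≤ (Nat.card G).factorization r := (hr.dvd_iff_one_le_factorization h0).1 (hx ▸ orderOf_dvd_natCard x)
    have hb : ¬ 2 ≤ (Nat.card G).factorization r := fun h => h2 ((hr.pow_dvd_iff_le_factorization h0).2 h)
    omega
  have hP : ∀ z : G, orderOf z = r → Nat.card (zpowers z) = r ^ (Nat.card G).factorization r := fun z hz => by
    rw [hfac, pow_one, Nat.card_zpowers, hz]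
  obtain ⟨c, hc⟩ := MulAction.exists_smul_eq G (Sylow.ofCard (zpowers g) (hP g hg)) (Sylow.ofCard (zpowers x) (hP x hx))
  have hg2 : x ∈ (c • (Sylow.ofCard (zpowers g) (hP g hg)) : Sylow r G) := by
    rw [hc]
    exact mem_zpowers x
  rw [← SetLike.mem_coe, Sylow.coe_smul, Set.mem_smul_set] at hg2
  obtain ⟨w, hw, hw2⟩ := hg2
  obtain ⟨n, hn⟩ := mem_zpowers_iff.1 (show w ∈ zpowers g from hw)
  refine ⟨c, n, ?_⟩
  rw [hn, ← hw2]
  rfl

/-- **Criterion.** The involution `s` inverts `x` of order `r`, `r ∤ |C(s)|`. -/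
theorem of_inv_card {S : Type*} [Group S] [Finite S] {r : ℕ} (hr : r.Prime) (hr2 : r ≠ 2) {s x : S} (hs : s * s = 1)
    (hx : orderOf x = r) (hinv : s * x * s⁻¹ = x⁻¹) (hC : ¬ r ∣ Nat.card (centralizer ({s} : Set S))) :
    PairN S := by
  have hsi : s⁻¹ = s := inv_eq_of_mul_eq_one_left hs
  have h1 : (s * x) * (s * x) = 1 := by
    have h2 : s * x * s = x⁻¹ := by rw [← hinv, hsi]
    calc s * x * (s * x) = (s * x * s) * x := by group
      _ = 1 := by rw [h2, inv_mul_cancel]
  refine PairHN.of_two_card hr hr2 (s := s) (t := s * x) hs h1 ?_ hC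
  rw [← mul_assoc, hs, one_mul, hx]

/-! ### the elements -/

/-- the inverting permutation -/
def R : ℕ := 23738686339186281899546858814486711

/-- the dodecad -/
def dd : ℕ := 340831

theorem okR : ok R = true := by decide +kernel

theorem okPR : okP R = true := by decide +kernel

theorem okPc : okP c11 = true := by decide +kernel

theorem code_dd : isCode dd = true := by decide +kernel

theorem code_0 : isCode 0 = true := by decide +kernel

theorem RR : pcomp R R = idP := by decide +kernel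

theorem R_dd : dd ^^^ pimg R dd = 16777215 := by decide +kernel

theorem c_dd : pimg c11 dd = dd := by decide +kernel

theorem cRc : pcomp c11 (pcomp R c11) = R := by decide +kernel

theorem R_ne : Nat.beq (papp R 0) 0 = false := by decide +kernel

theorem pimg0 {P : ℕ} (hP : ok P = true) : pimg P 0 = 0 := pimg_zero (ok_iff.1 hP).1

theorem xx_mo : xx = mo 0 c11 := by
  unfold xx mo mu
  rw [cd_zero, signCo0_zero, one_mul]

/-- the element with square `-1` -/
noncomputable def y1 : Co0 := mo dd R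

theorem mo_all : mo 16777215 idP = signCo0 allOne := by
  unfold mo
  rw [el_idP, map_one, mul_one, Cfsg.Agent.CoOneType.InvMain.cd_all]

theorem y1_sq : y1 * y1 = signCo0 allOne := by
  unfold y1
  rw [mo_mul code_dd code_dd okR okR, RR, R_dd, mo_all]

theorem x_y1_x : xx * (y1 * xx) = y1 := by
  have h1 : pimg R 0 = 0 := pimg0 okR
  unfold y1
  rw [xx_mo, mo_mul code_dd code_0 okR okc, h1, Nat.xor_zero, mo_mul code_0 code_dd okc (ok_pcomp okR okc), c_dd,
    Nat.zero_xor, cRc]

/-! ### `Co1` -/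

theorem card_Co1 : Nat.card Spor.Co1 = 4157776806543360000 := Cfsg.Agent.S0399.result.2

theorem orderOf_mkx : orderOf (mk xx) = 11 := by
  have : Fact (Nat.Prime 11) := ⟨by norm_num⟩
  refine orderOf_eq_prime ?_ fun h => ?_
  · show (Cfsg.Agent.CoOneType.CoOneE.pr xx) ^ 11 = 1
    rw [← map_pow, xx_pow, map_one]
  · have h2 := xx_pow
    rcases (mk_eq_one _).1 h with h1 | h1
    · have h3 : mu = 1 := by
        apply perm_eq_one (d := 0)
        rw [signCo0_zero, one_mul]
        exact h1
      exact mu_ne h3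
    · rw [h1] at h2
      have h3 : (signCo0 allOne) ^ 11 = signCo0 allOne := by
        rw [show 11 = 2 * 5 + 1 from rfl, pow_succ, pow_mul, pow_two, signCo0_mul_self, one_pow, one_mul]
      rw [h3] at h2
      exact Cfsg.Agent.CoOneType.CoOneE.allOne_ne h2

/-- the centralizer of the image of an element with square `-1` -/
theorem not_dvd {b : Co0} (hb : b * b = signCo0 allOne) : ¬ 11 ∣ Nat.card (centralizer ({mk b} : Set Spor.Co1)) := by
  intro h
  have : Fact (Nat.Prime 11) := ⟨by norm_num⟩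
  obtain ⟨k, hk⟩ := exists_prime_orderOf_dvd_card' 11 h
  have hkc := mem_centralizer_singleton_iff.1 k.2
  have hko : orderOf (k : Spor.Co1) = 11 := by rw [orderOf_coe, hk]
  obtain ⟨c, n, hn⟩ := exists_conj_zpow (r := 11) (by norm_num) (by rw [card_Co1]; norm_num) orderOf_mkx hko
  obtain ⟨c0, rfl⟩ := exists_mk c
  have h1 : Commute ((k : Spor.Co1) ^ n) (mk b) := (show Commute (k : Spor.Co1) (mk b) from hkc).zpow_left n
  have h2 : mk xx * mk (c0 * b * c0⁻¹) = mk (c0 * b * c0⁻¹) * mk xx := by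
    rw [mk_mul (c0 * b), mk_mul c0 b, mk_inv, ← hn]
    calc mk c0 * (k : Spor.Co1) ^ n * (mk c0)⁻¹ * (mk c0 * mk b * (mk c0)⁻¹)
        = mk c0 * ((k : Spor.Co1) ^ n * mk b) * (mk c0)⁻¹ := by group
      _ = mk c0 * (mk b * (k : Spor.Co1) ^ n) * (mk c0)⁻¹ := by rw [h1.eq]
      _ = mk c0 * mk b * (mk c0)⁻¹ * (mk c0 * (k : Spor.Co1) ^ n * (mk c0)⁻¹) := by group
  set t : Co0 := c0 * b * c0⁻¹ with ht
  have htt : t * t = signCo0 allOne := by
    rw [ht]
    calc c0 * b * c0⁻¹ * (c0 * b * c0⁻¹) = c0 * (b * b) * c0⁻¹ := by group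
      _ = signCo0 allOne := by
        rw [hb, Cfsg.Agent.CoOneType.SignFacts.sign_allOne_comm, mul_inv_cancel_right]
  rw [← mk_mul, ← mk_mul, mk_eq] at h2
  rcases h2 with h2 | h2
  · exact false_of_sq_neg h2.symm htt
  · -- `xx t = t xx ζ`
    have h3 : t⁻¹ * xx * t = xx * signCo0 allOne := by
      rw [mul_assoc, h2]
      group
    have h4 : (t⁻¹ * xx * t) ^ 11 = t⁻¹ * xx ^ 11 * t := by
      have h5 := conj_pow (a := t⁻¹) (b := xx) (i := 11)
      rwa [inv_inv] at h5
    rw [h3, xx_pow, mul_one, inv_mul_cancel] at h4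
    have h5 : Commute xx (signCo0 allOne) := Cfsg.Agent.CoOneType.SignFacts.sign_allOne_comm xx
    rw [h5.mul_pow, xx_pow, one_mul] at h4
    have h6 : (signCo0 allOne) ^ 11 = signCo0 allOne := by
      rw [show 11 = 2 * 5 + 1 from rfl, pow_succ, pow_mul, pow_two, signCo0_mul_self, one_pow, one_mul]
    rw [h6] at h4
    exact Cfsg.Agent.CoOneType.CoOneE.allOne_ne h4

theorem co1_model : PairN Spor.Co1 := by
  refine of_inv_card (s := mk y1) (x := mk xx) (r := 11) (by norm_num) (by norm_num) ?_ orderOf_mkx ?_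
    (not_dvd y1_sq)
  · rw [← mk_mul, y1_sq]
    exact (mk_eq_one _).2 (Or.inr rfl)
  · have h1 : mk xx * (mk y1 * mk xx) = mk y1 := by rw [← mk_mul, ← mk_mul, x_y1_x]
    rw [eq_inv_iff_mul_eq_one]
    have h2 : mk y1 * mk xx = (mk xx)⁻¹ * mk y1 := by rw [eq_inv_mul_iff_mul_eq]; exact h1
    rw [h2]
    group

/-- `Co1`. -/
theorem co1 {K : Type u} [Group K] (h : Spor.IsoCo1 K) : PairN K := by
  obtain ⟨e⟩ := h
  exact PairN.congr e.symm co1_model

/-! ### `Co2` -/

theorem toCo0_xx : toCo0 (mo2 0 c11) = xx := by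
  rw [toCo0_mo2 inE_zero okPc, xx_mo]

theorem orderOf_x2 : orderOf (mo2 0 c11) = 11 := by
  have : Fact (Nat.Prime 11) := ⟨by norm_num⟩
  refine orderOf_eq_prime ?_ fun h => ?_
  · apply toCo0_injective
    rw [map_pow, toCo0_xx, xx_pow, map_one]
  · have h1 : xx = 1 := by rw [← toCo0_xx, h, map_one]
    have h3 : mu = 1 := by
      apply perm_eq_one (d := 0)
      rw [signCo0_zero, one_mul]
      exact h1
    exact mu_ne h3

theorem co2_model : PairN Spor.Co2 := by
  have : Finite Spor.Co2 := Finite.of_injective _ toCo0_injective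
  have hN : NoTwo Spor.Co2 11 := by
    refine NoTwo.of_one (by norm_num) (by rw [Cfsg.Agent.Schreier.CoTwoStab.card]; norm_num) orderOf_x2 ?_
    intro t ht hc
    have h1 : toCo0 t = 1 := by
      apply eq_one_of_fix
      · rw [← toCo0_xx, ← map_mul, ← map_mul, hc.eq]
      · rw [← map_mul]
        have h2 := pow_orderOf_eq_one t
        rw [ht, pow_two] at h2
        rw [h2, map_one]
      · exact toCo0_smul t
    rw [← map_one toCo0] at h1
    rw [toCo0_injective h1, orderOf_one] at ht
    norm_num at ht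
  have hy2 : mo2 0 R * mo2 0 R = 1 := by
    rw [PairCo2.mul_P okPR okPR, RR, mo2_one]
  refine PairN.of_inv (x := mo2 0 c11) (y := mo2 0 R) (r := 11) (by norm_num) (by norm_num) orderOf_x2 ?_ ?_ hN
  · refine orderOf_eq_prime (hp := ⟨Nat.prime_two⟩) (by rw [pow_two, hy2]) fun h => ?_
    have h1 : toCo0 (mo2 0 R) = 1 := by rw [h, map_one]
    rw [toCo0_mo2 inE_zero okPR] at h1
    unfold mo at h1
    have h2 := perm_eq_one h1
    have h3 := idx_el_smul okR (pt 0)
    rw [h2, one_smul, idx_pt (by norm_num)] at h3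
    have h4 := R_ne
    rw [← h3] at h4
    exact absurd h4 (by decide)
  · have h1 : mo2 0 c11 * (mo2 0 R * mo2 0 c11) = mo2 0 R := by
      rw [PairCo2.mul_P okPR okPc, PairCo2.mul_P okPc (okP_pcomp okPR okPc), cRc]
    rw [eq_inv_iff_mul_eq_one]
    have h2 : mo2 0 R * mo2 0 c11 = (mo2 0 c11)⁻¹ * mo2 0 R := by rw [eq_inv_mul_iff_mul_eq]; exact h1
    rw [h2]
    group

/-- `Co2`. -/
theorem co2 {K : Type u} [Group K] (h : Spor.IsoCo2 K) : PairN K := by
  obtain ⟨e⟩ := h
  exact PairN.congr e.symm co2_model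

end Cfsg.Agent.H729.PairCoN
end

-- part: H385/SpCoTwo
section
set_option linter.all false
open scoped Cfsg.Agent.FastGrp

/-!
# `Co2` has no elements of order 22 (helper385; the proof of `H729.PairCoN.co2_model`)
-/

set_option autoImplicit false

namespace Cfsg.Agent.H385.Sp

open Subgroup hiding mk
open Cfsg Cfsg.Agent.H729.PairBase Cfsg.Agent.H463.Pair
open Cfsg.Agent.SporadicA.GolayBase Cfsg.Agent.SporadicA.GolayPerm
open Cfsg.Agent.SporadicA.Co0Mono hiding mk
open Cfsg.Agent.SporadicA.Co1Simple Cfsg.Agent.Co2Type.Mono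
open Cfsg.Agent.SporadicStructure.M24El
open Cfsg.Agent.H729.MData Cfsg.Agent.H729.Count Cfsg.Agent.H729.PairEleven Cfsg.Agent.H729.PairCoN
open Cfsg.Agent.CoOneType.ClosingFacts (mk mk_mul mk_inv exists_mk mk_eq_one mk_eq)

theorem co2_noTwo : NoTwo Spor.Co2 11 := by
  have : Finite Spor.Co2 := Finite.of_injective _ toCo0_injective
  refine NoTwo.of_one (by norm_num) (by rw [Cfsg.Agent.Schreier.CoTwoStab.card]; norm_num) orderOf_x2 ?_
  intro t ht hc
  have h1 : toCo0 t = 1 := by
    apply eq_one_of_fix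
    · rw [← toCo0_xx, ← map_mul, ← map_mul, hc.eq]
    · rw [← map_mul]
      have h2 := pow_orderOf_eq_one t
      rw [ht, pow_two] at h2
      rw [h2, map_one]
    · exact toCo0_smul t
  rw [← map_one toCo0] at h1
  rw [toCo0_injective h1, orderOf_one] at ht
  norm_num at ht

/-- `22 ∉ ω(Co2)` -/
theorem co2_22 {X : Type*} [Group X] (h : Spor.IsoCo2 X) : ¬ ∃ x : X, orderOf x = 22 := by
  obtain ⟨e⟩ := h
  rintro ⟨x, hx⟩
  have h11 : orderOf (e x ^ 2) = 11 := by rw [orderOf_pow' _ (by norm_num), MulEquiv.orderOf_eq, hx]; rfl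
  have h2 : orderOf (e x ^ 11) = 2 := by rw [orderOf_pow' _ (by norm_num), MulEquiv.orderOf_eq, hx]; rfl
  exact co2_noTwo _ _ h2 h11 ((Commute.refl (e x)).pow_pow 11 2)

end Cfsg.Agent.H385.Sp
end
end
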