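import Cfsg.Agent.H865.ListGroup
import Cfsg.Agent.H603.SporElim
import Mathlib
import Cfsg.Agent.FastGrp
import Cfsg.Agent.Prune
set_option linter.all false
prune_inst 0x7f00000000000000000000000000000000000000000000000000000000000000000000000000000000000000000000000000000000000000000000000000000000000000000000000000000000000000003fffffffffffffffffffffffffffbeffbdffffffff
open scoped Cfsg.Agent.FastGrp

/-!
# The Mathieu groups have no elements of order nine (helper385)
-/

set_option autoImplicit false

namespace Cfsg.Agent.H385.Sp

open Cfsg Cfsg.Agent.SporadicA.GolayPerm Cfsg.Agent.SporadicStructure.M24El Cfsg.Agent.H865.ListGroup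

/-- a Sylow 3-subgroup of `M24` -/
def L27 : List ℕ := [
  338820430779539599854781927522678896,
  339385814411018677742333925085205876,
  339674825263854825963510690440380466,
  340176871845597159685214054810751086,
  340275753066760321870018560399553909,
  340649707868080498157633865276033056,
  342047851099092578209276731920011629,
  342126436656771691847531198187683940,
  342221492768067777894292068289857570,
  510224974637185141637862410276943984,
  510732055861768973125763498166505837,
  510971638203216673180157974157559840,
  517954803416939563542699590769033316,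
  518485934205498483749018429898719282,
  518586100905090087510116682340283765,
  520708377011927720307386914149815668,
  521261076429698949328603056726970478,
  521405568693203148207898097201825826,
  968387073749205546622141123802796142,
  968544268666731538488866000659861869,
  969192014298030381650217250691579954,
  980600392099115862224664184341252130,
  980634643197141674542869560109872501,
  980779135861915351174294817350203504,
  984022154703685223554085089853161572,
  984595131745896034752887507120084340,
  984818244535754528103549039458486304]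

theorem chk27 : chkGroup L27 = true := by decide +kernel

theorem nodup27 : L27.Nodup := by decide +kernel

theorem cube27 : (L27.all fun P => Nat.beq (pcomp P (pcomp P P)) idP) = true := by decide +kernel

theorem exp27 {g : M24} (hg : g ∈ listGroup L27 chk27) : g ^ 3 = 1 := by
  obtain ⟨P, hP, rfl⟩ := hg
  have hok := ((chkGroup_spec chk27).1 P hP).1
  have h1 := Nat.eq_of_beq_eq_true (List.all_eq_true.1 cube27 P hP)
  have h2 : pcomp P P ∈ L27 := (chkGroup_spec chk27).2.2.1 P hP P hP
  have hok2 := ((chkGroup_spec chk27).1 _ h2).1
  rw [pow_succ', pow_two, ← el_pcomp hok hok, ← el_pcomp hok hok2, h1, el_idP]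

/-- `9 ∉ ω(M24)` -/
theorem m24_nine_model (x : M24) : orderOf x ≠ 9 := by
  intro hx
  have : Fact (Nat.Prime 3) := ⟨Nat.prime_three⟩
  have hcard : Nat.card M24 = 244823040 := NotCT.Orders.m24 ⟨MulEquiv.refl _⟩
  have hfin : Finite M24 := Nat.finite_of_card_ne_zero (by rw [hcard]; norm_num)
  have hL : Nat.card ↥(listGroup L27 chk27) = 27 := by
    rw [card_listGroup chk27 nodup27]
    decide +kernel
  -- Sylow
  have hdvd : ¬ 3 ∣ (listGroup L27 chk27).index := by
    have h1 := (listGroup L27 chk27).card_mul_index
    rw [hL, hcard] at h1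
    have h2 : (listGroup L27 chk27).index = 9067520 := by omega
    rw [h2]
    norm_num
  have hPg : IsPGroup 3 ↥(listGroup L27 chk27) := IsPGroup.of_card (n := 3) (by rw [hL]; norm_num)
  let P : Sylow 3 M24 := hPg.toSylow hdvd
  have hz : IsPGroup 3 ↥(Subgroup.zpowers x) := IsPGroup.of_card (n := 2) (by rw [Nat.card_zpowers, hx]; norm_num)
  obtain ⟨Q, hQ⟩ := hz.exists_le_sylow
  obtain ⟨g, hg⟩ := MulAction.exists_smul_eq M24 Q P
  have hxQ : x ∈ (Q : Subgroup M24) := hQ (Subgroup.mem_zpowers x)
  have h1 : g * x * g⁻¹ ∈ (P : Subgroup M24) := by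
    rw [← hg, Sylow.coe_subgroup_smul]
    exact ⟨x, hxQ, rfl⟩
  have h2 : (g * x * g⁻¹) ^ 3 = 1 := exp27 h1
  have h3 : x ^ 3 = 1 := by
    rw [conj_pow] at h2
    calc x ^ 3 = g⁻¹ * (g * x ^ 3 * g⁻¹) * g := by group
      _ = 1 := by rw [h2]; group
  have h4 := orderOf_dvd_of_pow_eq_one h3
  rw [hx] at h4
  omega

theorem m24_nine {X : Type*} [Group X] (h : Spor.IsoM24 X) : ¬ ∃ x : X, orderOf x = 9 := by
  obtain ⟨e⟩ := h
  rintro ⟨x, hx⟩
  exact m24_nine_model (e x) (by rw [MulEquiv.orderOf_eq, hx])

theorem m23_le : Spor.M23 ≤ M24 := fun _ h => h.1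

theorem m22_le : Spor.M22 ≤ M24 := fun _ h => h.1.1

theorem m23_nine {X : Type*} [Group X] (h : Spor.IsoM23 X) : ¬ ∃ x : X, orderOf x = 9 := by
  obtain ⟨e⟩ := h
  rintro ⟨x, hx⟩
  exact m24_nine_model (Subgroup.inclusion m23_le (e x))
    (by rw [orderOf_injective _ (Subgroup.inclusion_injective _), MulEquiv.orderOf_eq, hx])

theorem m22_nine {X : Type*} [Group X] (h : Spor.IsoM22 X) : ¬ ∃ x : X, orderOf x = 9 := by
  obtain ⟨e⟩ := h
  rintro ⟨x, hx⟩
  exact m24_nine_model (Subgroup.inclusion m22_le (e x))
    (by rw [orderOf_injective _ (Subgroup.inclusion_injective _), MulEquiv.orderOf_eq, hx])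

end Cfsg.Agent.H385.Sp
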